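import Groth.Agent.H27Witt.GaCoord
import Mathlib.AlgebraicGeometry.AffineSpace

/-!
# Affine space times the additive group
-/

set_option autoImplicit false
set_option linter.style.haveILetI false
set_option backward.isDefEq.respectTransparency false
set_option backward.isDefEq.respectTransparency.types false
universe u

open CategoryTheory CategoryTheory.Limits MonoidalCategory CartesianMonoidalCategory AlgebraicGeometry

noncomputable section

namespace Groth.Agent.H28Unirat

variable (S : Scheme.{u})

/-- The affine space as an object over the base. -/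
def A (n : ℕ) : Over S := Over.mk (AffineSpace (ULift.{u} (Fin n)) S ↘ S)

/-- `𝔸ⁿ ⊗ 𝔾ₐ ≅ 𝔸ⁿ⁺¹`. -/
theorem exists_prodIso (n : ℕ) : Nonempty (A S n ⊗ Red.Ga S ≅ A S (n + 1)) := by
  let pr : A S (n + 1) ⟶ A S n :=
    Over.homMk (AffineSpace.homOfVector (A S (n + 1)).hom fun i => AffineSpace.coord S (ULift.up i.down.castSucc))
      (AffineSpace.homOfVector_over _ _)
  obtain ⟨x, hx⟩ := H27Witt.GaCoord.gaFn_surjective (X := A S (n + 1))
    (AffineSpace.coord S (ULift.up (Fin.last n)))
  let v : Fin (n + 1) → Γ((A S n ⊗ Red.Ga S).left, ⊤) :=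
    Fin.snoc (fun i => (fst (A S n) (Red.Ga S)).left.appTop (AffineSpace.coord S (ULift.up i)))
      (Red.gaFn (snd (A S n) (Red.Ga S)))
  let β : A S n ⊗ Red.Ga S ⟶ A S (n + 1) :=
    Over.homMk (AffineSpace.homOfVector (A S n ⊗ Red.Ga S).hom fun i => v i.down) (AffineSpace.homOfVector_over _ _)
  have hβ : ∀ i : Fin (n + 1), β.left.appTop (AffineSpace.coord S (ULift.up i)) = v i := fun i =>
    AffineSpace.homOfVector_appTop_coord _ _ _
  have hpr : ∀ i : Fin n, pr.left.appTop (AffineSpace.coord S (ULift.up i)) =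
      AffineSpace.coord S (ULift.up i.castSucc) := fun i => AffineSpace.homOfVector_appTop_coord _ _ _
  refine ⟨⟨β, lift pr x, ?_, ?_⟩⟩
  · refine CartesianMonoidalCategory.hom_ext _ _ ?_ ?_
    · rw [Category.assoc, lift_fst, Category.id_comp]
      refine Over.OverMorphism.ext (AffineSpace.hom_ext ((Over.w _).trans (Over.w _).symm) ?_)
      rintro ⟨i⟩
      show (β.left ≫ pr.left).appTop (AffineSpace.coord S (ULift.up i)) = _
      rw [Scheme.Hom.comp_appTop, CommRingCat.comp_apply, hpr, hβ]
      simp [v]
      rfl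
    · rw [Category.assoc, lift_snd, Category.id_comp]
      refine H27Witt.GaCoord.gaFn_injective ?_
      rw [H27Witt.GaCoord.gaFn_comp, hx, hβ]
      simp [v]
  · refine Over.OverMorphism.ext (AffineSpace.hom_ext ((Over.w _).trans (Over.w _).symm) ?_)
    rintro ⟨i⟩
    show ((lift pr x).left ≫ β.left).appTop (AffineSpace.coord S (ULift.up i)) =
      (𝟙 (A S (n + 1)).left : _).appTop (AffineSpace.coord S (ULift.up i))
    rw [Scheme.Hom.comp_appTop, CommRingCat.comp_apply, hβ, Scheme.Hom.id_appTop]
    induction i using Fin.lastCases with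
    | last =>
      simp only [v, Fin.snoc_last]
      rw [← H27Witt.GaCoord.gaFn_comp, lift_snd, hx]
      rfl
    | cast j =>
      simp only [v, Fin.snoc_castSucc]
      rw [← CommRingCat.comp_apply, ← Scheme.Hom.comp_appTop, ← Over.comp_left, lift_fst, hpr]
      rfl

end Groth.Agent.H28Unirat
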