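import Groth.Agent.H27Witt.Torsor

/-!
# Torsors under Witt groups have lifts over affine schemes

(Adapted from `H27Witt.exists_section`.)
-/

set_option autoImplicit false
set_option linter.style.haveILetI false
universe u

open CategoryTheory CategoryTheory.Limits MonoidalCategory CartesianMonoidalCategory MonObj AlgebraicGeometry
open TensorProduct
open Groth.Agent.H27Witt

noncomputable section

namespace Groth.Agent.H28Unirat

variable {p : ℕ} [hp : Fact p.Prime] {S : Scheme.{u}} {n m : ℕ}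

/-- A torsor under a Witt group has a section over every affine scheme mapping to the base. -/
theorem exists_lift {E Q Q₀ : Over S} [GrpObj E] [IsCommMonObj E] [GrpObj Q] [IsAffine Q₀.left]
    (i : WittGrp.W p n S ⟶ E) [IsMonHom i] [Mono i] (π : E ⟶ Q) [IsMonHom π] [Surjective π.left] [Flat π.left]
    [QuasiCompact π.left] (hker : AlgGrp.IsKernel i π) (v : Q₀ ⟶ Q) :
    ∃ s : Q₀ ⟶ E, s ≫ π = v := by
  let E' : Scheme.{u} := pullback π.left v.left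
  let π' : E' ⟶ Q₀.left := pullback.snd π.left v.left
  haveI : Flat π' := inferInstanceAs (Flat (pullback.snd π.left v.left))
  haveI : Surjective π' := inferInstanceAs (Surjective (pullback.snd π.left v.left))
  haveI : QuasiCompact π' := inferInstanceAs (QuasiCompact (pullback.snd π.left v.left))
  haveI : CompactSpace E' := QuasiCompact.compactSpace_of_compactSpace π'
  let 𝒰 : E'.OpenCover := E'.affineCover.finiteSubcover
  let C : CommRingCat.{u} := Γ(∐ 𝒰.X, ⊤)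
  let w : Spec C ⟶ E' := (∐ 𝒰.X).isoSpec.inv ≫ Sigma.desc 𝒰.f
  haveI : Flat w := inferInstanceAs (Flat ((∐ 𝒰.X).isoSpec.inv ≫ Sigma.desc 𝒰.f))
  haveI : Surjective w := inferInstanceAs (Surjective ((∐ 𝒰.X).isoSpec.inv ≫ Sigma.desc 𝒰.f))
  let u : Spec C ⟶ E.left := w ≫ pullback.fst π.left v.left
  let f : Spec C ⟶ Q₀.left := w ≫ π'
  have hfu : f ≫ v.left = u ≫ π.left := by
    simp only [f, u, π', Category.assoc, pullback.condition]
  haveI : Flat f := inferInstanceAs (Flat (w ≫ π'))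
  haveI : Surjective f := inferInstanceAs (Surjective (w ≫ π'))
  let B : CommRingCat.{u} := Γ(Q₀.left, ⊤)
  obtain ⟨φ, hφ⟩ := Spec.map_surjective (f ≫ Q₀.left.isoSpec.hom)
  letI : Algebra B C := φ.hom.toAlgebra
  haveI : Flat (Spec.map φ) := by rw [hφ]; infer_instance
  haveI : Surjective (Spec.map φ) := by rw [hφ]; infer_instance
  haveI : Module.Flat B C := (HasRingHomProperty.Spec_iff (P := @Flat)).mp (inferInstance : Flat (Spec.map φ))
  haveI : Module.FaithfullyFlat B C :=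
    Module.FaithfullyFlat.of_comap_surjective (inferInstance : Surjective (Spec.map φ)).surj
  let gY : Spec C ⟶ S := u ≫ E.hom
  let uo : Over.mk gY ⟶ E := Over.homMk u rfl
  let P : CommRingCat.{u} := CommRingCat.of (C ⊗[B] C)
  let T : CommRingCat.{u} := CommRingCat.of (C ⊗[B] (C ⊗[B] C))
  let a₁ : C ⟶ P := CommRingCat.ofHom (Algebra.TensorProduct.includeLeft : C →ₐ[B] C ⊗[B] C).toRingHom
  let a₂ : C ⟶ P := CommRingCat.ofHom (Algebra.TensorProduct.includeRight : C →ₐ[B] C ⊗[B] C).toRingHom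
  have hf : f ≫ Q₀.hom = gY := by
    rw [← Over.w v, ← Category.assoc, hfu, Category.assoc, Over.w π]
  have hfφ : f = Spec.map φ ≫ Q₀.left.isoSpec.inv := by rw [hφ, Category.assoc, Iso.hom_inv_id, Category.comp_id]
  have ha : φ ≫ a₁ = φ ≫ a₂ := CommRingCat.hom_ext (RingHom.ext fun b => by
    change (φ.hom b) ⊗ₜ[B] (1 : C) = (1 : C) ⊗ₜ[B] (φ.hom b)
    change (algebraMap B C b) ⊗ₜ[B] (1 : C) = (1 : C) ⊗ₜ[B] (algebraMap B C b)
    rw [Algebra.algebraMap_eq_smul_one, TensorProduct.smul_tmul])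
  have haf : Spec.map a₁ ≫ f = Spec.map a₂ ≫ f := by
    rw [hfφ, ← Spec.map_comp_assoc, ← Spec.map_comp_assoc, ha]
  let gP : Spec P ⟶ S := Spec.map a₁ ≫ gY
  let g₁ : Over.mk gP ⟶ Over.mk gY := Over.homMk (Spec.map a₁) rfl
  let g₂ : Over.mk gP ⟶ Over.mk gY := Over.homMk (Spec.map a₂) (by
    change Spec.map a₂ ≫ gY = Spec.map a₁ ≫ gY
    rw [← hf, ← Category.assoc, ← haf, Category.assoc])
  have hgπ : g₁ ≫ uo ≫ π = g₂ ≫ uo ≫ π := Over.OverMorphism.ext (by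
    show Spec.map a₁ ≫ u ≫ π.left = Spec.map a₂ ≫ u ≫ π.left
    rw [← hfu, ← Category.assoc, haf, Category.assoc])
  obtain ⟨x, hx, -⟩ : ∃ x : Over.mk gP ⟶ WittGrp.W p n S, x ≫ i = (g₁ ≫ uo)⁻¹ * (g₂ ≫ uo) ∧ True := by
    have w : ((g₁ ≫ uo)⁻¹ * (g₂ ≫ uo)) ≫ π = toUnit _ ≫ η[Q] := by
      rw [MonObj.mul_comp, GrpObj.inv_comp, Category.assoc, Category.assoc, ← hgπ, inv_mul_cancel]
      exact Hom.one_def
    exact ⟨hker.lift _ (toUnit _) w, hker.lift_fst _ _ w, trivial⟩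
  let b₁₂ : P ⟶ T := CommRingCat.ofHom (f12 B C).toRingHom
  let b₁₃ : P ⟶ T := CommRingCat.ofHom (f13 B C).toRingHom
  let b₂₃ : P ⟶ T := CommRingCat.ofHom (f23 B C).toRingHom
  have e1 : a₁ ≫ b₁₃ = a₁ ≫ b₁₂ := CommRingCat.hom_ext (RingHom.ext fun c => by
    change f13 B C (c ⊗ₜ[B] (1 : C)) = f12 B C (c ⊗ₜ[B] (1 : C))
    simp [Algebra.TensorProduct.one_def])
  have e2 : a₁ ≫ b₂₃ = a₂ ≫ b₁₂ := CommRingCat.hom_ext (RingHom.ext fun c => by
    change f23 B C (c ⊗ₜ[B] (1 : C)) = f12 B C ((1 : C) ⊗ₜ[B] c)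
    simp)
  have e3 : a₂ ≫ b₁₃ = a₂ ≫ b₂₃ := CommRingCat.hom_ext (RingHom.ext fun c => by
    change f13 B C ((1 : C) ⊗ₜ[B] c) = f23 B C ((1 : C) ⊗ₜ[B] c)
    simp)
  let gT : Spec T ⟶ S := Spec.map b₁₂ ≫ gP
  let q₁₂ : Over.mk gT ⟶ Over.mk gP := Over.homMk (Spec.map b₁₂) rfl
  let q₁₃ : Over.mk gT ⟶ Over.mk gP := Over.homMk (Spec.map b₁₃) (by
    change Spec.map b₁₃ ≫ Spec.map a₁ ≫ gY = Spec.map b₁₂ ≫ Spec.map a₁ ≫ gY
    rw [← Spec.map_comp_assoc, ← Spec.map_comp_assoc, e1])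
  let q₂₃ : Over.mk gT ⟶ Over.mk gP := Over.homMk (Spec.map b₂₃) (by
    change Spec.map b₂₃ ≫ Spec.map a₁ ≫ gY = Spec.map b₁₂ ≫ Spec.map a₁ ≫ gY
    rw [← Spec.map_comp_assoc, ← Spec.map_comp_assoc, e2, Spec.map_comp_assoc, Spec.map_comp_assoc,
      show Spec.map a₂ ≫ gY = Spec.map a₁ ≫ gY from Over.w g₂])
  have r1 : q₁₃ ≫ g₁ = q₁₂ ≫ g₁ := Over.OverMorphism.ext (by
    change Spec.map b₁₃ ≫ Spec.map a₁ = Spec.map b₁₂ ≫ Spec.map a₁
    rw [← Spec.map_comp, ← Spec.map_comp, e1])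
  have r2 : q₂₃ ≫ g₁ = q₁₂ ≫ g₂ := Over.OverMorphism.ext (by
    change Spec.map b₂₃ ≫ Spec.map a₁ = Spec.map b₁₂ ≫ Spec.map a₂
    rw [← Spec.map_comp, ← Spec.map_comp, e2])
  have r3 : q₁₃ ≫ g₂ = q₂₃ ≫ g₂ := Over.OverMorphism.ext (by
    change Spec.map b₁₃ ≫ Spec.map a₂ = Spec.map b₂₃ ≫ Spec.map a₂
    rw [← Spec.map_comp, ← Spec.map_comp, e3])
  have hcoc : (q₁₂ ≫ x) * (q₂₃ ≫ x) = q₁₃ ≫ x := by
    rw [← cancel_mono i, MonObj.mul_comp]
    simp only [Category.assoc, hx, MonObj.comp_mul, GrpObj.comp_inv, reassoc_of% r1, reassoc_of% r2, reassoc_of% r3]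
    rw [_root_.mul_assoc, mul_inv_cancel_left]
  have hval := congrArg (specVal gT) hcoc
  rw [specVal_mul, specVal_comp b₁₂ q₁₂ rfl, specVal_comp b₂₃ q₂₃ rfl, specVal_comp b₁₃ q₁₃ rfl] at hval
  obtain ⟨τ, hτ⟩ := exists_witt_coboundary (p := p) (B := B) (C := C) (specVal gP x) hval
  obtain ⟨t, ht⟩ := (specVal_bijective (p := p) (n := n) gY).2 τ
  have hxt : x = (g₁ ≫ t)⁻¹ * (g₂ ≫ t) := (specVal_bijective gP).1 (by
    rw [specVal_inv_mul, specVal_comp a₂ g₂ rfl, specVal_comp a₁ g₁ rfl, ht]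
    exact hτ.symm)
  let u' : Over.mk gY ⟶ E := uo * (t ≫ i)⁻¹
  have hu' : g₁ ≫ u' = g₂ ≫ u' := by
    have h2 : g₂ ≫ uo = (g₁ ≫ uo) * ((g₁ ≫ t ≫ i)⁻¹ * (g₂ ≫ t ≫ i)) := by
      have := hx
      rw [hxt, MonObj.mul_comp, GrpObj.inv_comp, Category.assoc, Category.assoc] at this
      rw [this, mul_inv_cancel_left]
    simp only [u', MonObj.comp_mul, GrpObj.comp_inv, h2]
    rw [_root_.mul_assoc, _root_.mul_assoc, _root_.mul_inv_cancel, _root_.mul_one]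
  have hdesc : ∀ {W : Scheme.{u}} (h₁ h₂ : W ⟶ Spec C), h₁ ≫ f = h₂ ≫ f → h₁ ≫ u'.left = h₂ ≫ u'.left := by
    intro W h₁ h₂ hh
    have hh' : h₁ ≫ Spec.map φ = h₂ ≫ Spec.map φ := by rw [hφ, ← Category.assoc, hh, Category.assoc]
    let l : W ⟶ Spec P := pullback.lift h₁ h₂ hh' ≫ (pullbackSpecIso B C C).hom
    have l1 : l ≫ Spec.map a₁ = h₁ := by
      simp only [l, a₁, Category.assoc]
      exact (congrArg (pullback.lift h₁ h₂ hh' ≫ ·) (pullbackSpecIso_hom_fst' B C C)).trans (pullback.lift_fst _ _ _)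
    have l2 : l ≫ Spec.map a₂ = h₂ := by
      simp only [l, a₂, Category.assoc]
      exact (congrArg (pullback.lift h₁ h₂ hh' ≫ ·) (pullbackSpecIso_hom_snd B C C)).trans (pullback.lift_snd _ _ _)
    rw [← l1, ← l2, Category.assoc, Category.assoc]
    exact congrArg (l ≫ ·) (congrArg Over.Hom.left hu')
  let s₀ : Q₀.left ⟶ E.left := EffectiveEpi.desc f u'.left fun g h hh => hdesc g h hh
  have hs₀ : f ≫ s₀ = u'.left := EffectiveEpi.fac _ _ _
  have hw : s₀ ≫ E.hom = Q₀.hom := by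
    rw [← cancel_epi f, ← Category.assoc, hs₀, hf]
    exact Over.w u'
  have hu'π : u' ≫ π = uo ≫ π := by
    rw [MonObj.mul_comp, GrpObj.inv_comp, Category.assoc, show i ≫ π = 1 by
      rw [hker.w]; exact Hom.one_def.symm, MonObj.comp_one, inv_one, _root_.mul_one]
  refine ⟨Over.homMk s₀ hw, Over.OverMorphism.ext ?_⟩
  change s₀ ≫ π.left = v.left
  rw [← cancel_epi f, ← Category.assoc, hs₀, hfu]
  exact congrArg Over.Hom.left hu'π


end Groth.Agent.H28Unirat
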